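import Mathlib
import Groth.Agent.FlatDescent.Global
import Groth.Agent.S9456

/-! Faithfully flat finitely presented algebras descend to finitely presented ones. -/

namespace Groth.Agent.FFDescend

open TensorProduct Groth.FlatDescent

universe u

/-- A fibre stays nonempty after base change. -/
lemma comap_surjective_baseChange {A₁ A₀ B₁ : Type u} [CommRing A₁] [CommRing A₀] [CommRing B₁]
    [Algebra A₁ A₀] [Algebra A₁ B₁]
    (h : ∀ p : PrimeSpectrum A₀, PrimeSpectrum.comap (algebraMap A₁ A₀) p ∈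
      Set.range (PrimeSpectrum.comap (S := B₁) (algebraMap A₁ B₁))) :
    Function.Surjective (PrimeSpectrum.comap (algebraMap A₀ (A₀ ⊗[A₁] B₁))) := by
  intro p
  set p₁ := PrimeSpectrum.comap (algebraMap A₁ A₀) p with hp₁
  have hn := (PrimeSpectrum.nontrivial_iff_mem_rangeComap p₁).mpr (h p)
  rw [← Set.mem_range, ← PrimeSpectrum.nontrivial_iff_mem_rangeComap]
  let k := p₁.asIdeal.ResidueField
  let K := p.asIdeal.ResidueField
  let φ : k →+* K := Ideal.ResidueField.map p₁.asIdeal p.asIdeal (algebraMap A₁ A₀) rfl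
  letI : Algebra k K := φ.toAlgebra
  haveI : IsScalarTower A₁ k K := IsScalarTower.of_algebraMap_eq fun x => by
    show algebraMap A₁ K x = φ (algebraMap A₁ k x)
    rw [Ideal.ResidueField.map_algebraMap]
    exact IsScalarTower.algebraMap_apply A₁ A₀ K x
  have hinj : Function.Injective
      (Algebra.TensorProduct.includeRight : k ⊗[A₁] B₁ →ₐ[k] K ⊗[k] (k ⊗[A₁] B₁)) :=
    Algebra.TensorProduct.includeRight_injective φ.injective
  haveI : Nontrivial (K ⊗[k] (k ⊗[A₁] B₁)) := hinj.nontrivial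
  haveI : Nontrivial (K ⊗[A₁] B₁) :=
    (Algebra.TensorProduct.cancelBaseChange A₁ k K K B₁).symm.toEquiv.nontrivial
  exact (Algebra.TensorProduct.cancelBaseChange A₁ A₀ K K B₁).toEquiv.nontrivial

theorem core {R A B : Type u} [CommRing R] [CommRing A] [CommRing B] [Algebra R A]
    [Algebra A B] [Module.FaithfullyFlat A B]
    (A₁ : Subalgebra ℤ A) (hA₁ : A₁.FG) [IsNoetherianRing A₁] (B₁ : Type u) [CommRing B₁] [Algebra A₁ B₁]
    [Module.Flat A₁ B₁] [Algebra.FinitePresentation A₁ B₁] [Algebra B₁ B] [IsScalarTower A₁ B₁ B]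
    [Algebra.IsPushout A₁ A B₁ B] :
    ∃ (A₀ B₀ : Type u) (_ : CommRing A₀) (_ : CommRing B₀) (_ : Algebra R A₀) (_ : Algebra A₀ A) (_ : IsScalarTower R A₀ A)
      (_ : Algebra A₀ B₀), Algebra.FinitePresentation R A₀ ∧ Algebra.FinitePresentation A₀ B₀ ∧ Module.FaithfullyFlat A₀ B₀ ∧
      Nonempty (B ≃ₐ[A] A ⊗[A₀] B₀) := by
  classical
  -- the image of `Spec B₁`
  have hmapopen := PrimeSpectrum.isOpenMap_comap_of_hasGoingDown_of_finitePresentation (R := A₁) (S := B₁)
  have hopen := hmapopen.isOpen_range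
  obtain ⟨J, hJ⟩ := (PrimeSpectrum.isClosed_iff_zeroLocus_ideal _).mp hopen.isClosed_compl
  have hJtop : J.map (algebraMap A₁ A) = ⊤ := by
    by_contra hne
    obtain ⟨m, hm, hJm⟩ := Ideal.exists_le_maximal _ hne
    obtain ⟨q, hq⟩ := PrimeSpectrum.comap_surjective_of_faithfullyFlat (B := B) ⟨m, hm.isPrime⟩
    have h1 : PrimeSpectrum.comap (algebraMap A₁ A) ⟨m, hm.isPrime⟩ ∈
        Set.range (PrimeSpectrum.comap (algebraMap A₁ B₁)) := by
      refine ⟨PrimeSpectrum.comap (algebraMap B₁ B) q, ?_⟩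
      rw [← hq, ← PrimeSpectrum.comap_comp_apply, ← PrimeSpectrum.comap_comp_apply]
      congr 1
      rw [← IsScalarTower.algebraMap_eq, ← IsScalarTower.algebraMap_eq]
    have h2 : PrimeSpectrum.comap (algebraMap A₁ A) ⟨m, hm.isPrime⟩ ∈
        PrimeSpectrum.zeroLocus (J : Set A₁) := Ideal.map_le_iff_le_comap.mp hJm
    rw [← hJ] at h2
    exact h2 h1
  -- enlarge the subalgebra so that `J` becomes the unit ideal
  obtain ⟨T, hspan⟩ : ∃ T : Finset A, ∀ A₂ : Subalgebra ℤ A, (T : Set A) ⊆ A₂ → ∀ h : A₁ ≤ A₂,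
      (1 : A₂) ∈ J.map (Subalgebra.inclusion h).toRingHom ∧ True := by
    obtain ⟨S, hS⟩ := (IsNoetherian.noetherian J : J.FG)
    have h1 : (1 : A) ∈ Ideal.span ((fun f : A₁ => (f : A)) '' (S : Set A₁)) := by
      have : J.map (algebraMap A₁ A) = Ideal.span ((fun f : A₁ => (f : A)) '' (S : Set A₁)) := by
        rw [← hS, Ideal.submodule_span_eq, Ideal.map_span]; rfl
      rw [← this, hJtop]; exact Submodule.mem_top
    rw [← Finset.coe_image, Submodule.mem_span_finset] at h1
    obtain ⟨c, -, hc⟩ := h1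
    refine ⟨(S.image fun f : A₁ => (f : A)).image c, fun A₂ hA₂ h => ⟨?_, trivial⟩⟩
    have hmem : ∀ x ∈ S.image fun f : A₁ => (f : A), ∃ y ∈ J.map (Subalgebra.inclusion h).toRingHom,
        (y : A) = c x • x := by
      intro x hx
      obtain ⟨f, hf, rfl⟩ := Finset.mem_image.mp hx
      refine ⟨⟨c f, hA₂ (Finset.mem_image_of_mem c hx)⟩ * Subalgebra.inclusion h f,
        Ideal.mul_mem_left _ _ (Ideal.mem_map_of_mem _ (hS ▸ Ideal.subset_span hf)), rfl⟩
    choose y hy1 hy2 using hmem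
    have : (1 : A₂) = ∑ x ∈ (S.image fun f : A₁ => (f : A)).attach, y x.1 x.2 := by
      apply Subtype.ext
      rw [AddSubmonoidClass.coe_finsetSum]
      simp only [hy2]
      rw [Finset.sum_attach _ fun x => c x • x, hc]
      rfl
    rw [this]
    exact sum_mem fun x _ => hy1 x.1 x.2
  let A₂ : Subalgebra ℤ A := A₁ ⊔ Algebra.adjoin ℤ (T : Set A)
  have h12 : A₁ ≤ A₂ := le_sup_left
  have hA₂ : A₂.FG := hA₁.sup (Subalgebra.fg_adjoin_finset T)
  obtain ⟨hone, -⟩ := hspan A₂ (fun x hx => (le_sup_right : _ ≤ A₂) (Algebra.subset_adjoin hx)) h12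
  haveI : Algebra.FiniteType ℤ A₂ := ⟨A₂.fg_top.mpr hA₂⟩
  haveI : Algebra.FinitePresentation ℤ A₂ := Algebra.FinitePresentation.of_finiteType.mp inferInstance
  let A₀ := R ⊗[ℤ] A₂
  let ι : A₁ →+* A₀ := (Algebra.TensorProduct.includeRight : A₂ →ₐ[ℤ] A₀).toRingHom.comp
    (Subalgebra.inclusion h12).toRingHom
  letI : Algebra A₁ A₀ := ι.toAlgebra
  let ψ : A₀ →ₐ[R] A := Algebra.TensorProduct.lift (Algebra.ofId R A) A₂.val fun _ _ => Commute.all _ _
  letI : Algebra A₀ A := ψ.toRingHom.toAlgebra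
  haveI : IsScalarTower R A₀ A := IsScalarTower.of_algebraMap_eq fun r => (ψ.commutes r).symm
  haveI : IsScalarTower A₁ A₀ A := IsScalarTower.of_algebraMap_eq fun a => by
    show algebraMap A₁ A a = ψ ((1 : R) ⊗ₜ (Subalgebra.inclusion h12 a))
    rw [Algebra.TensorProduct.lift_tmul, map_one, one_mul]
    rfl
  have hsurj : Function.Surjective (PrimeSpectrum.comap (algebraMap A₀ (A₀ ⊗[A₁] B₁))) := by
    refine comap_surjective_baseChange fun p => ?_
    by_contra hp
    have h2 : PrimeSpectrum.comap (algebraMap A₁ A₀) p ∈ PrimeSpectrum.zeroLocus (J : Set A₁) := hJ ▸ hp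
    have h3 : J.map ι ≤ p.asIdeal := Ideal.map_le_iff_le_comap.mpr h2
    refine p.isPrime.ne_top ((Ideal.eq_top_iff_one _).mpr (h3 ?_))
    have := Ideal.mem_map_of_mem (Algebra.TensorProduct.includeRight : A₂ →ₐ[ℤ] A₀).toRingHom hone
    rwa [map_one, Ideal.map_map] at this
  haveI : Module.FaithfullyFlat A₀ (A₀ ⊗[A₁] B₁) := Module.FaithfullyFlat.of_comap_surjective (A := A₀) (B := A₀ ⊗[A₁] B₁) hsurj
  exact ⟨A₀, A₀ ⊗[A₁] B₁, inferInstance, inferInstance, inferInstance, inferInstance, inferInstance,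
    inferInstance, inferInstance, inferInstance, inferInstance,
    ⟨(Algebra.IsPushout.equiv A₁ A B₁ B).symm.trans
      (Algebra.TensorProduct.cancelBaseChange A₁ A₀ A A B₁).symm⟩⟩


theorem main {R A B : Type u} [CommRing R] [CommRing A] [CommRing B] [Algebra R A]
    [Algebra A B] [Algebra.FinitePresentation A B] [Module.FaithfullyFlat A B] :
    ∃ (A₀ B₀ : Type u) (_ : CommRing A₀) (_ : CommRing B₀) (_ : Algebra R A₀) (_ : Algebra A₀ A) (_ : IsScalarTower R A₀ A)
      (_ : Algebra A₀ B₀), Algebra.FinitePresentation R A₀ ∧ Algebra.FinitePresentation A₀ B₀ ∧ Module.FaithfullyFlat A₀ B₀ ∧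
      Nonempty (B ≃ₐ[A] A ⊗[A₀] B₀) := by
  classical
  obtain ⟨n, π, hπ, hker⟩ := ‹Algebra.FinitePresentation A B›.out
  -- a model over a finite type subalgebra
  let e1 : (Fin 1 → MvPolynomial (Fin n) A) ≃ₗ[MvPolynomial (Fin n) A] MvPolynomial (Fin n) A :=
    LinearEquiv.funUnique (Fin 1) _ _
  let N : Submodule (MvPolynomial (Fin n) A) (Fin 1 → MvPolynomial (Fin n) A) :=
    Submodule.comap e1.toLinearMap (RingHom.ker π.toRingHom)
  have hN : N.FG := by
    have : N = Submodule.map e1.symm.toLinearMap (RingHom.ker π.toRingHom) := by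
      rw [Submodule.map_equiv_eq_comap_symm, LinearEquiv.symm_symm]
    rw [this]
    exact Submodule.FG.map _ hker
  haveI : Module.Flat A ((Fin 1 → MvPolynomial (Fin n) A) ⧸ N) := by
    let g : (Fin 1 → MvPolynomial (Fin n) A) →ₗ[A] B :=
      π.toLinearMap ∘ₗ (e1.restrictScalars A).toLinearMap
    have hg : Function.Surjective g := hπ.comp e1.surjective
    let e : ((Fin 1 → MvPolynomial (Fin n) A) ⧸ N.restrictScalars A) ≃ₗ[A] B :=
      (Submodule.quotEquivOfEq _ (LinearMap.ker g) (by ext x; rfl)).trans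
        (g.quotKerEquivOfSurjective hg)
    exact Module.Flat.of_linearEquiv ((Submodule.Quotient.restrictScalarsEquiv A N).symm.trans e)
  obtain ⟨A₁, hA₁, -, N₁, hN₁, hflat⟩ := exists_flat_model hN ⊥ Subalgebra.fg_bot
  haveI : Algebra.FiniteType ℤ A₁ := ⟨A₁.fg_top.mpr hA₁⟩
  haveI : IsNoetherianRing A₁ := Algebra.FiniteType.isNoetherianRing ℤ A₁
  let e2 : (Fin 1 → MvPolynomial (Fin n) A₁) ≃ₗ[MvPolynomial (Fin n) A₁] MvPolynomial (Fin n) A₁ :=
    LinearEquiv.funUnique (Fin 1) _ _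
  let H₁ : Ideal (MvPolynomial (Fin n) A₁) := Submodule.map e2.toLinearMap N₁
  let B₁ := MvPolynomial (Fin n) A₁ ⧸ H₁
  haveI : Module.Flat A₁ B₁ := by
    have hid : baseN (Subalgebra.inclusion (le_refl A₁)).toRingHom N₁ = N₁ := by
      have hm : ∀ y : Fin 1 → MvPolynomial (Fin n) A₁,
          mapF (Subalgebra.inclusion (le_refl A₁)).toRingHom y = y := fun y => funext fun i => by
        rw [mapF_apply, show (Subalgebra.inclusion (le_refl A₁)).toRingHom = RingHom.id _ from
          RingHom.ext fun _ => rfl, MvPolynomial.map_id]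
      refine le_antisymm (Submodule.span_le.mpr ?_) fun y hy => ?_
      · rintro _ ⟨y, hy, rfl⟩
        rw [hm]; exact hy
      · have := mapF_mem_baseN (φ := (Subalgebra.inclusion (le_refl A₁)).toRingHom) hy
        rwa [hm] at this
    have := hflat A₁ hA₁ le_rfl
    rw [hid] at this
    exact Module.Flat.of_linearEquiv
      ((Submodule.Quotient.equiv N₁ H₁ e2 rfl).restrictScalars A₁).symm
  haveI : Algebra.FinitePresentation A₁ B₁ :=
    Algebra.FinitePresentation.quotient (IsNoetherian.noetherian H₁)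
  have hHker : ∀ h ∈ H₁, π (MvPolynomial.map (algebraMap A₁ A) h) = 0 := by
    intro h hh
    obtain ⟨y, hy, rfl⟩ := hh
    have := mapF_mem_baseN (φ := A₁.val.toRingHom) hy
    rw [hN₁] at this
    exact this
  letI algB : Algebra B₁ B :=
    (Ideal.Quotient.lift H₁ (π.toRingHom.comp (MvPolynomial.map (algebraMap A₁ A))) hHker).toAlgebra
  haveI : IsScalarTower A₁ B₁ B := ⟨fun a b c => by
    obtain ⟨b, rfl⟩ := Ideal.Quotient.mk_surjective b
    show π (MvPolynomial.map (algebraMap A₁ A) (a • b)) * c =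
      algebraMap A₁ A a • (π (MvPolynomial.map (algebraMap A₁ A) b) * c)
    rw [Algebra.smul_def a b, MvPolynomial.algebraMap_eq, map_mul, map_mul, MvPolynomial.map_C,
      ← MvPolynomial.algebraMap_eq, π.commutes, Algebra.smul_def, mul_assoc]⟩
  haveI : Algebra.IsPushout A₁ A B₁ B := by
    refine S9456.isPushout_of_presentation π hπ H₁ (fun _ => rfl) ?_
    intro x hx
    have hx' : (e1.symm x) ∈ baseN A₁.val.toRingHom N₁ := by
      rw [hN₁]
      show π (e1 (e1.symm x)) = 0
      rw [LinearEquiv.apply_symm_apply]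
      exact hx
    have key : ∀ v ∈ baseN A₁.val.toRingHom N₁, e1 v ∈ H₁.map (MvPolynomial.map (algebraMap A₁ A)) := by
      intro v hv
      induction hv using Submodule.span_induction with
      | mem v hv => obtain ⟨y, hy, rfl⟩ := hv; exact Ideal.mem_map_of_mem _ ⟨y, hy, rfl⟩
      | zero => rw [map_zero]; exact zero_mem _
      | add a b _ _ ha hb => rw [map_add]; exact add_mem ha hb
      | smul c a _ ha => rw [map_smul]; exact Ideal.mul_mem_left _ c ha
    have := key _ hx'
    rwa [LinearEquiv.apply_symm_apply] at this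
  exact core A₁ hA₁ B₁

end Groth.Agent.FFDescend
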